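import Mathlib

/-!
Etale-local isomorphisms of Weierstrass curves with the same j-invariant, away from 0 and 1728.
-/

set_option autoImplicit false
set_option linter.style.haveILetI false

universe u

namespace Groth.Agent.WeierLocIso

open Polynomial WeierstrassCurve

variable {A : Type u} [CommRing A]

theorem exists_root (p : Ideal A) [p.IsPrime] (f : A[X]) (hf : f.Monic) (g : A[X])
    (x : AlgebraicClosure p.ResidueField) (hx : aeval x f = 0) (hd : aeval x f.derivative ≠ 0)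
    (hg : aeval x g ≠ 0) :
    ∃ (B : Type u) (_ : CommRing B) (_ : Algebra A B), Algebra.Etale A B ∧ ∃ (q : Ideal B) (_ : q.IsPrime),
      q.comap (algebraMap A B) = p ∧ ∃ v : B, aeval v f = 0 ∧ IsUnit (aeval v f.derivative) ∧ IsUnit (aeval v g) := by
  let P : StandardEtalePair A :=
    { f := f, monic_f := hf, g := f.derivative * g, cond := ⟨g, 0, 1, by rw [mul_zero, add_zero, pow_one]⟩ }
  have hx' : P.HasMap x := by
    refine ⟨hx, ?_⟩
    change IsUnit (aeval x (f.derivative * g))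
    rw [map_mul]
    exact (mul_ne_zero hd hg).isUnit
  let φ := P.lift x hx'
  refine ⟨P.Ring, inferInstance, inferInstance, inferInstance, RingHom.ker φ.toRingHom, RingHom.ker_isPrime _, ?_,
    P.X, P.hasMap_X.1, ?_⟩
  · ext a
    rw [Ideal.mem_comap, RingHom.mem_ker]
    change φ (algebraMap A P.Ring a) = 0 ↔ _
    rw [φ.commutes, IsScalarTower.algebraMap_apply A p.ResidueField (AlgebraicClosure p.ResidueField) a,
      map_eq_zero, Ideal.algebraMap_residueField_eq_zero]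
  · have h := P.hasMap_X.2
    change IsUnit (aeval P.X (f.derivative * g)) at h
    rw [map_mul] at h
    exact IsUnit.mul_iff.mp h

theorem algebraMap_eq_zero (p : Ideal A) [p.IsPrime] (a : A) :
    algebraMap A (AlgebraicClosure p.ResidueField) a = 0 ↔ a ∈ p := by
  rw [IsScalarTower.algebraMap_apply A p.ResidueField (AlgebraicClosure p.ResidueField) a,
      map_eq_zero, Ideal.algebraMap_residueField_eq_zero]

theorem exists_isUnit (p : Ideal A) [p.IsPrime] (a : A) (ha : a ∉ p) :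
    ∃ (B : Type u) (_ : CommRing B) (_ : Algebra A B), Algebra.Etale A B ∧ ∃ (q : Ideal B) (_ : q.IsPrime),
      q.comap (algebraMap A B) = p ∧ IsUnit (algebraMap A B a) := by
  obtain ⟨B, _, _, hB, q, hq, hqp, v, -, -, hv⟩ := exists_root p X monic_X (C a) 0 (by simp) (by simp)
    (by rw [aeval_C]; exact fun h => ha ((algebraMap_eq_zero p a).mp h))
  exact ⟨B, inferInstance, inferInstance, hB, q, hq, hqp, by rwa [aeval_C] at hv⟩

theorem exists_quad (p : Ideal A) [p.IsPrime] (b c e : A) (he : e ∉ p) (x : AlgebraicClosure p.ResidueField)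
    (hx : x ^ 2 - algebraMap A _ b * x + algebraMap A _ c = 0) (hd : 2 * x ≠ algebraMap A _ b) (hx0 : x ≠ 0) :
    ∃ (B : Type u) (_ : CommRing B) (_ : Algebra A B), Algebra.Etale A B ∧ ∃ (q : Ideal B) (_ : q.IsPrime),
      q.comap (algebraMap A B) = p ∧ IsUnit (algebraMap A B e) ∧
      ∃ v : B, IsUnit v ∧ v ^ 2 - algebraMap A B b * v + algebraMap A B c = 0 := by
  have hm : (X ^ 2 - C b * X + C c).Monic := by monicity!
  obtain ⟨B, _, _, hB, q, hq, hqp, v, hv, -, hu⟩ := exists_root p _ hm (X * C e) x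
    (by simpa only [map_add, map_sub, map_mul, map_pow, aeval_X, aeval_C] using hx)
    (by simpa [derivative_X_pow, sub_eq_zero, one_add_one_eq_two, map_ofNat] using hd)
    (by simpa [algebraMap_eq_zero] using And.intro he hx0)
  simp only [map_mul, aeval_X, aeval_C, IsUnit.mul_iff] at hu
  refine ⟨B, inferInstance, inferInstance, hB, q, hq, hqp, hu.2, v, hu.1, ?_⟩
  simpa only [map_add, map_sub, map_mul, map_pow, aeval_X, aeval_C] using hv

/-- The curves are isomorphic on an etale neighbourhood of the prime. -/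
def LocIso (p : Ideal A) (W W' : WeierstrassCurve A) : Prop :=
  ∃ (B : Type u) (_ : CommRing B) (_ : Algebra A B), Algebra.Etale A B ∧ ∃ (q : Ideal B) (_ : q.IsPrime),
    q.comap (algebraMap A B) = p ∧ ∃ C : VariableChange B, C • W.map (algebraMap A B) = W'.map (algebraMap A B)

theorem LocIso.of_eq (p : Ideal A) [p.IsPrime] {W W' : WeierstrassCurve A} (h : W = W') : LocIso p W W' :=
  ⟨A, inferInstance, inferInstance, inferInstance, p, inferInstance, by simp, 1, by rw [h, one_smul]⟩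

theorem LocIso.step {p : Ideal A} {W W' : WeierstrassCurve A} {B : Type u} [CommRing B] [Algebra A B]
    (hB : Algebra.Etale A B) {q : Ideal B} (hqp : q.comap (algebraMap A B) = p)
    (h : LocIso q (W.map (algebraMap A B)) (W'.map (algebraMap A B))) : LocIso p W W' := by
  obtain ⟨B', _, _, hB', r, hr, hrq, C, hC⟩ := h
  letI : Algebra A B' := ((algebraMap B B').comp (algebraMap A B)).toAlgebra
  haveI : IsScalarTower A B B' := IsScalarTower.of_algebraMap_eq fun _ => rfl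
  refine ⟨B', inferInstance, inferInstance, Algebra.Etale.comp A B B', r, hr, ?_, C, ?_⟩
  · rw [IsScalarTower.algebraMap_eq A B B', ← Ideal.comap_comap, hrq, hqp]
  · rw [WeierstrassCurve.map_map, WeierstrassCurve.map_map] at hC
    exact hC

theorem LocIso.of_change {p : Ideal A} {W W' : WeierstrassCurve A} (C C' : VariableChange A)
    (h : LocIso p (C • W) (C' • W')) : LocIso p W W' := by
  obtain ⟨B, _, _, hB, q, hq, hqp, D, hD⟩ := h
  refine ⟨B, inferInstance, inferInstance, hB, q, hq, hqp, (C'.map (algebraMap A B))⁻¹ * D * C.map (algebraMap A B), ?_⟩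
  rw [mul_smul, mul_smul, map_variableChange, hD, ← map_variableChange, inv_smul_smul]

/-- Same j-invariant, stated without division, with unit discriminants, `c₄` and `c₆`. -/
def Rel (W W' : WeierstrassCurve A) : Prop :=
  W.c₄ ^ 3 * W'.Δ = W'.c₄ ^ 3 * W.Δ ∧ IsUnit W.c₄ ∧ IsUnit W'.c₄ ∧ IsUnit W.c₆ ∧ IsUnit W'.c₆

theorem Rel.map {W W' : WeierstrassCurve A} (h : Rel W W') {B : Type u} [CommRing B] (f : A →+* B) :
    Rel (W.map f) (W'.map f) := by
  obtain ⟨h1, h2, h3, h4, h5⟩ := h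
  refine ⟨?_, by rw [map_c₄]; exact h2.map f, by rw [map_c₄]; exact h3.map f, by rw [map_c₆]; exact h4.map f,
    by rw [map_c₆]; exact h5.map f⟩
  rw [map_c₄, map_c₄, map_Δ, map_Δ, ← map_pow, ← map_mul, h1, map_mul, map_pow]

theorem Rel.change {W W' : WeierstrassCurve A} (h : Rel W W') (C C' : VariableChange A) :
    Rel (C • W) (C' • W') := by
  obtain ⟨h1, h2, h3, h4, h5⟩ := h
  simp only [Rel, variableChange_c₄, variableChange_c₆, variableChange_Δ, IsUnit.mul_iff]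
  refine ⟨?_, ⟨(Units.isUnit _).pow _, h2⟩, ⟨(Units.isUnit _).pow _, h3⟩, ⟨(Units.isUnit _).pow _, h4⟩,
    ⟨(Units.isUnit _).pow _, h5⟩⟩
  linear_combination ((C.u⁻¹ : Aˣ) : A) ^ 12 * ((C'.u⁻¹ : Aˣ) : A) ^ 12 * h1

theorem mem_of_isUnit_c₄_two (p : Ideal A) [p.IsPrime] (W : WeierstrassCurve A) (h2 : (2 : A) ∈ p)
    (hc : IsUnit W.c₄) : W.a₁ ∉ p := fun h => by
  refine Ideal.IsPrime.ne_top ‹_› (Ideal.eq_top_of_isUnit_mem _ ?_ hc)
  rw [c₄, b₂, b₄, show (W.a₁ ^ 2 + 4 * W.a₂) ^ 2 - 24 * (2 * W.a₄ + W.a₁ * W.a₃) =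
    (W.a₁ ^ 3 + 8 * W.a₁ * W.a₂ - 24 * W.a₃) * W.a₁ + 2 * (8 * W.a₂ ^ 2 - 24 * W.a₄) by ring]
  exact add_mem (Ideal.mul_mem_left _ _ h) (Ideal.mul_mem_right _ _ h2)

/-- Characteristic two: the normal form with `a₁ = 1` and `a₃ = a₄ = 0`. -/
theorem norm_two (p : Ideal A) [p.IsPrime] (W : WeierstrassCurve A) (h2 : (2 : A) ∈ p) (hc : IsUnit W.c₄) :
    ∃ (B : Type u) (_ : CommRing B) (_ : Algebra A B), Algebra.Etale A B ∧ ∃ (q : Ideal B) (_ : q.IsPrime),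
      q.comap (algebraMap A B) = p ∧ ∃ C : VariableChange B, (C • W.map (algebraMap A B)).a₁ = 1 ∧
        (C • W.map (algebraMap A B)).a₃ = 0 ∧ (C • W.map (algebraMap A B)).a₄ = 0 := by
  obtain ⟨B₁, _, _, hB₁, q₁, hq₁, hqp₁, hu⟩ := exists_isUnit p _ (mem_of_isUnit_c₄_two p W h2 hc)
  obtain ⟨e, he⟩ := hu
  let W₁ := W.map (algebraMap A B₁)
  let C₁ : VariableChange B₁ := ⟨e, -W₁.a₃ * ((e⁻¹ : B₁ˣ) : B₁), 0, 0⟩
  let V := C₁ • W₁
  have h2' : (2 : B₁) ∈ q₁ := by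
    have h : algebraMap A B₁ 2 ∈ q₁ := Ideal.mem_comap.mp (hqp₁.symm ▸ h2)
    rwa [map_ofNat] at h
  have hea : W₁.a₁ = e := he.symm
  have hV1 : V.a₁ = 1 := by
    simp only [V, C₁, variableChange_a₁, hea, mul_zero, add_zero, Units.inv_mul]
  have hV3 : V.a₃ = 0 := by
    simp only [V, C₁, variableChange_a₃, hea, mul_zero, add_zero, mul_assoc, Units.inv_mul, mul_one,
      add_neg_cancel]
  have hcV : IsUnit V.c₄ := by
    simp only [V, variableChange_c₄, W₁, map_c₄]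
    exact ((Units.isUnit _).pow _).mul (hc.map _)
  have hb : V.b₂ ∉ q₁ := fun h => by
    refine Ideal.IsPrime.ne_top ‹_› (Ideal.eq_top_of_isUnit_mem _ ?_ hcV)
    rw [c₄, sq]
    exact sub_mem (Ideal.mul_mem_left _ _ h) (Ideal.mul_mem_right _ _
      (by rw [show (24 : B₁) = 12 * 2 by norm_num]; exact Ideal.mul_mem_left _ _ h2'))
  have hK : ∀ a, algebraMap B₁ (AlgebraicClosure q₁.ResidueField) a = 0 ↔ a ∈ q₁ := algebraMap_eq_zero q₁
  have h12 : algebraMap B₁ (AlgebraicClosure q₁.ResidueField) (12 * V.a₄) = 0 := (hK _).mpr <|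
    Ideal.mul_mem_right _ _ (by rw [show (12 : B₁) = 6 * 2 by norm_num]; exact Ideal.mul_mem_left _ _ h2')
  have hbK : algebraMap B₁ (AlgebraicClosure q₁.ResidueField) V.b₂ ≠ 0 := fun h => hb ((hK _).mp h)
  obtain ⟨B, _, _, hB, q, hq, hqp, -, v, hvu, hv⟩ := exists_quad q₁ V.b₂ (12 * V.a₄) 1
    (fun h => Ideal.IsPrime.ne_top ‹_› ((Ideal.eq_top_iff_one _).mpr h)) (algebraMap B₁ _ V.b₂)
    (by rw [h12]; ring) (fun h => hbK (by linear_combination h)) hbK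
  letI : Algebra A B := ((algebraMap B₁ B).comp (algebraMap A B₁)).toAlgebra
  haveI : IsScalarTower A B₁ B := IsScalarTower.of_algebraMap_eq fun _ => rfl
  refine ⟨B, inferInstance, inferInstance, Algebra.Etale.comp A B₁ B, q, hq, ?_, ?_⟩
  · rw [IsScalarTower.algebraMap_eq A B₁ B, ← Ideal.comap_comap, hqp, hqp₁]
  obtain ⟨w, hw⟩ := hvu
  let f := algebraMap B₁ B
  let t : B := f V.a₄ * ((w⁻¹ : Bˣ) : B)
  refine ⟨⟨1, -2 * t, 0, t⟩ * C₁.map f, ?_⟩
  have hm : W.map (algebraMap A B) = W₁.map f := (WeierstrassCurve.map_map W (algebraMap A B₁) f).symm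
  rw [mul_smul, hm, map_variableChange]
  change (_ • V.map f).a₁ = 1 ∧ (_ • V.map f).a₃ = 0 ∧ (_ • V.map f).a₄ = 0
  simp only [variableChange_a₁, variableChange_a₃, variableChange_a₄, map_a₁, map_a₂, map_a₃, map_a₄, hV1, hV3,
    map_one, map_zero, inv_one, Units.val_one, mul_zero, add_zero, one_pow, one_mul]
  refine ⟨trivial, by ring, ?_⟩
  have hb2 : f V.b₂ = 1 + 4 * f V.a₂ := by rw [b₂, hV1, map_add, map_mul, map_pow, map_one, map_ofNat, one_pow]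
  have h1 : v * ((w⁻¹ : Bˣ) : B) = 1 := by rw [← hw, Units.mul_inv]
  rw [map_mul, map_ofNat] at hv
  change v ^ 2 - f V.b₂ * v + 12 * f V.a₄ = 0 at hv
  rw [hb2] at hv
  simp only [t]
  linear_combination (f V.a₄ * ((w⁻¹ : Bˣ) : B) ^ 2) * hv -
    (f V.a₄ * (1 + v * ((w⁻¹ : Bˣ) : B)) - (1 + 4 * f V.a₂) * f V.a₄ * ((w⁻¹ : Bˣ) : B)) * h1

theorem mem_map {B : Type u} [CommRing B] [Algebra A B] {q : Ideal B} {p : Ideal A}
    (hqp : q.comap (algebraMap A B) = p) (n : ℕ) (hn : (n : A) ∈ p) : (n : B) ∈ q := by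
  have h : algebraMap A B n ∈ q := Ideal.mem_comap.mp (hqp.symm ▸ hn)
  rwa [map_natCast] at h

theorem not_mem_map {B : Type u} [CommRing B] [Algebra A B] {q : Ideal B} {p : Ideal A}
    (hqp : q.comap (algebraMap A B) = p) {a : A} (ha : a ∉ p) : algebraMap A B a ∉ q :=
  fun h => ha (hqp ▸ Ideal.mem_comap.mpr h)

theorem same_two (p : Ideal A) [p.IsPrime] (W W' : WeierstrassCurve A) (h2 : (2 : A) ∈ p) (h1 : W.a₁ = 1)
    (h3 : W.a₃ = 0) (h4 : W.a₄ = 0) (h1' : W'.a₁ = 1) (h3' : W'.a₃ = 0) (h4' : W'.a₄ = 0) (ha : W'.a₂ = W.a₂)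
    (hR : Rel W W') : LocIso p W W' := by
  have hc : W.c₄ = W.b₂ ^ 2 := by rw [c₄, b₄, h1, h3, h4]; ring
  have hc' : W'.c₄ = W.c₄ := by simp only [c₄, b₂, b₄, h1, h3, h4, h1', h3', h4', ha]
  have hΔ : W'.Δ = W.Δ := (hR.2.1.pow 3).mul_left_cancel (by rw [hR.1, hc'])
  have hF : W.b₂ ^ 3 + 432 * (W.a₆ + W'.a₆) ∉ p := fun h => by
    have h' := sub_mem h (Ideal.mul_mem_right (W.a₆ + W'.a₆) _ (show (432 : A) ∈ p by
      rw [show (432 : A) = 216 * 2 by norm_num]; exact Ideal.mul_mem_left _ _ h2))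
    rw [add_sub_cancel_right] at h'
    exact Ideal.IsPrime.ne_top ‹_› (Ideal.eq_top_of_isUnit_mem _ (Ideal.IsPrime.mem_of_pow_mem ‹_› 3 h')
      ((isUnit_pow_iff two_ne_zero).mp (hc ▸ hR.2.1)))
  obtain ⟨B, _, _, hB, q, hq, hqp, hu⟩ := exists_isUnit p _ hF
  refine LocIso.step hB hqp (LocIso.of_eq q ?_)
  have hmul : (W.a₆ - W'.a₆) * (W.b₂ ^ 3 + 432 * (W.a₆ + W'.a₆)) = 0 := by
    rw [Δ, Δ, b₈, b₈, b₆, b₆, b₄, b₄, b₂, b₂, h1, h3, h4, h1', h3', h4', ha] at hΔ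
    rw [b₂, h1]
    linear_combination hΔ
  have h6 : algebraMap A B (W.a₆ - W'.a₆) = 0 :=
    hu.mul_left_eq_zero.mp (by rw [← map_mul, hmul, map_zero])
  rw [map_sub, sub_eq_zero] at h6
  ext <;> simp only [map_a₁, map_a₂, map_a₃, map_a₄, map_a₆, h1, h3, h4, h1', h3', h4', ha, h6]

theorem final_two (p : Ideal A) [p.IsPrime] (W W' : WeierstrassCurve A) (h2 : (2 : A) ∈ p) (h1 : W.a₁ = 1)
    (h3 : W.a₃ = 0) (h4 : W.a₄ = 0) (h1' : W'.a₁ = 1) (h3' : W'.a₃ = 0) (h4' : W'.a₄ = 0)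
    (hR : Rel W W') : LocIso p W W' := by
  have hc : W'.c₄ = W'.b₂ ^ 2 := by rw [c₄, b₄, h1', h3', h4']; ring
  obtain ⟨e, he⟩ := (isUnit_pow_iff two_ne_zero).mp (hc ▸ hR.2.2.1)
  let K := AlgebraicClosure p.ResidueField
  have hbK : algebraMap A K W'.b₂ ≠ 0 := fun h =>
    Ideal.IsPrime.ne_top ‹_› (Ideal.eq_top_of_isUnit_mem _ ((algebraMap_eq_zero p _).mp h) (he ▸ e.isUnit))
  have h2K : (2 : K) = 0 := by
    rw [← map_ofNat (algebraMap A K)]; exact (algebraMap_eq_zero p _).mpr h2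
  obtain ⟨x, hx, hx0⟩ : ∃ x : K, x ^ 2 - algebraMap A K W'.b₂ * x +
      algebraMap A K (W'.b₂ * (W'.a₂ - W.a₂)) = 0 ∧ x ≠ 0 := by
    obtain ⟨x, hx⟩ := IsAlgClosed.exists_root (Polynomial.X ^ 2 - Polynomial.C (algebraMap A K W'.b₂) *
      Polynomial.X + Polynomial.C (algebraMap A K (W'.b₂ * (W'.a₂ - W.a₂))))
      (by
        have hm : (Polynomial.X ^ 2 - Polynomial.C (algebraMap A K W'.b₂) *
          Polynomial.X + Polynomial.C (algebraMap A K (W'.b₂ * (W'.a₂ - W.a₂)))).natDegree = 2 := by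
          compute_degree!
        rw [ne_eq, Polynomial.degree_eq_iff_natDegree_eq_of_pos Nat.zero_lt_two |>.mpr hm]
        decide)
    simp only [IsRoot, eval_add, eval_sub, eval_mul, eval_pow, eval_X, eval_C] at hx
    by_cases h : x = 0
    · exact ⟨algebraMap A K W'.b₂ - x, by linear_combination hx, by rw [h, sub_zero]; exact hbK⟩
    · exact ⟨x, hx, h⟩
  obtain ⟨B, _, _, hB, q, hq, hqp, -, v, -, hv⟩ := exists_quad p _ _ 1
    (fun h => Ideal.IsPrime.ne_top ‹_› ((Ideal.eq_top_iff_one _).mpr h)) x hx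
    (fun h => hbK (by rw [← h, h2K, zero_mul])) hx0
  let i : B := algebraMap A B ((e⁻¹ : Aˣ) : A)
  have hi : algebraMap A B W'.b₂ * i = 1 := by rw [← he, ← map_mul, Units.mul_inv, map_one]
  let r : B := -(v * i)
  have h2q : (2 : B) ∈ q := mem_map hqp 2 h2
  have hu0 : 1 + 2 * r ∉ q := fun h => Ideal.IsPrime.ne_top ‹_› ((Ideal.eq_top_iff_one _).mpr (by
    have h' := sub_mem h (Ideal.mul_mem_right r _ h2q)
    rwa [add_sub_cancel_right] at h'))
  obtain ⟨B', _, _, hB', q', hq', hqp', u, hu⟩ := exists_isUnit q _ hu0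
  refine LocIso.step hB hqp (LocIso.step hB' hqp' ?_)
  let f := algebraMap B B'
  let s' : B' := f r
  have hu' : (u : B') = 1 + 2 * s' := by rw [hu, map_add, map_one, map_mul, map_ofNat]
  have hrel : (1 + 4 * algebraMap A B W'.a₂) * (r ^ 2 + r) = algebraMap A B W.a₂ - algebraMap A B W'.a₂ := by
    have hb : algebraMap A B W'.b₂ = 1 + 4 * algebraMap A B W'.a₂ := by
      rw [b₂, h1', map_add, map_mul, map_pow, map_one, map_ofNat, one_pow]
    rw [map_mul, map_sub] at hv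
    rw [← hb]
    simp only [r]
    linear_combination i * hv +
      (v ^ 2 * i - (algebraMap A B W'.a₂ - algebraMap A B W.a₂)) * hi
  refine LocIso.of_change ⟨u, 0, s', 0⟩ 1 ?_
  rw [one_smul]
  have h2' : (2 : B') ∈ q' := mem_map hqp' 2 h2q
  refine same_two q' _ _ h2' ?_ ?_ ?_ ?_ ?_ ?_ ?_ ?_
  · simp only [variableChange_a₁, map_a₁, h1, map_one, ← hu', Units.inv_mul]
  · simp only [variableChange_a₃, map_a₃, map_a₁, h3, map_zero, zero_mul, mul_zero, add_zero]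
  · simp only [variableChange_a₄, map_a₃, map_a₁, map_a₂, map_a₄, h3, h4, map_zero]; ring
  · rw [map_a₁, map_a₁, h1', map_one, map_one]
  · rw [map_a₃, map_a₃, h3', map_zero, map_zero]
  · rw [map_a₄, map_a₄, h4', map_zero, map_zero]
  · simp only [variableChange_a₂, map_a₂, map_a₁, h1, map_one]
    have h' := congrArg f hrel
    simp only [map_mul, map_add, map_sub, map_pow, map_one, map_ofNat] at h'
    have hval : f (algebraMap A B W.a₂) - s' * 1 + 3 * 0 - s' ^ 2 =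
        f (algebraMap A B W'.a₂) * (u : B') ^ 2 := by
      rw [hu']; linear_combination -h'
    rw [hval, mul_comm, mul_assoc, ← mul_pow, Units.mul_inv, one_pow, mul_one]
  · rw [show W'.map (algebraMap A B) = (1 : VariableChange B) • W'.map (algebraMap A B) from (one_smul _ _).symm]
    refine ((hR.map (algebraMap A B)).map (algebraMap B B')).change ⟨u, 0, s', 0⟩ 1 |> fun h => ?_
    rw [one_smul] at h ⊢
    exact h

theorem loc_two (p : Ideal A) [p.IsPrime] (W W' : WeierstrassCurve A) (h2 : (2 : A) ∈ p) (hR : Rel W W') :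
    LocIso p W W' := by
  obtain ⟨B, _, _, hB, q, hq, hqp, C, h1, h3, h4⟩ := norm_two p W h2 hR.2.1
  refine LocIso.step hB hqp (LocIso.of_change C 1 ?_)
  rw [one_smul]
  have h2q : (2 : B) ∈ q := mem_map hqp 2 h2
  obtain ⟨B', _, _, hB', q', hq', hqp', C', h1', h3', h4'⟩ :=
    norm_two q (W'.map (algebraMap A B)) h2q (hR.map _).2.2.1
  refine LocIso.step hB' hqp' (LocIso.of_change 1 C' ?_)
  rw [one_smul]
  refine final_two q' _ _ (mem_map hqp' 2 h2q) (by rw [map_a₁, h1, map_one]) (by rw [map_a₃, h3, map_zero])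
    (by rw [map_a₄, h4, map_zero]) h1' h3' h4' ?_
  have h := (((hR.map (algebraMap A B)).change C 1).map (algebraMap B B')).change 1 C'
  rw [one_smul, one_smul] at h
  exact h

/-- Two invertible: the normal form with `a₁ = a₃ = 0`. -/
theorem norm_odd (W : WeierstrassCurve A) (h2 : IsUnit (2 : A)) :
    ∃ C : VariableChange A, (C • W).a₁ = 0 ∧ (C • W).a₃ = 0 := by
  obtain ⟨h, hh⟩ := h2
  have hi : (2 : A) * ((h⁻¹ : Aˣ) : A) = 1 := by rw [← hh, Units.mul_inv]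
  refine ⟨⟨1, 0, -W.a₁ * ((h⁻¹ : Aˣ) : A), -W.a₃ * ((h⁻¹ : Aˣ) : A)⟩, ?_, ?_⟩
  · simp only [variableChange_a₁, inv_one, Units.val_one, one_mul]
    linear_combination -W.a₁ * hi
  · simp only [variableChange_a₃, inv_one, Units.val_one, one_pow, one_mul]
    linear_combination -W.a₃ * hi

/-- Characteristic three: the normal form with `a₁ = a₃ = a₄ = 0`. -/
theorem norm_three (p : Ideal A) [p.IsPrime] (W : WeierstrassCurve A) (h3 : (3 : A) ∈ p) (h2 : IsUnit (2 : A))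
    (hc : IsUnit W.c₄) :
    ∃ (B : Type u) (_ : CommRing B) (_ : Algebra A B), Algebra.Etale A B ∧ ∃ (q : Ideal B) (_ : q.IsPrime),
      q.comap (algebraMap A B) = p ∧ ∃ C : VariableChange B, (C • W.map (algebraMap A B)).a₁ = 0 ∧
        (C • W.map (algebraMap A B)).a₃ = 0 ∧ (C • W.map (algebraMap A B)).a₄ = 0 := by
  obtain ⟨C₁, hV1, hV3⟩ := norm_odd W h2
  let V := C₁ • W
  have hcV : IsUnit V.c₄ := by rw [variableChange_c₄]; exact ((Units.isUnit _).pow _).mul hc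
  have ha : 2 * V.a₂ ∉ p := fun h => by
    refine Ideal.IsPrime.ne_top ‹_› (Ideal.eq_top_of_isUnit_mem _ ?_ hcV)
    rw [c₄, b₂, b₄, hV1, show ((0 : A) ^ 2 + 4 * V.a₂) ^ 2 - 24 * (2 * V.a₄ + 0 * V.a₃) =
      8 * V.a₂ * (2 * V.a₂) - 16 * V.a₄ * 3 by ring]
    exact sub_mem (Ideal.mul_mem_left _ _ h) (Ideal.mul_mem_left _ _ h3)
  have hK : algebraMap A (AlgebraicClosure p.ResidueField) (3 * V.a₄) = 0 :=
    (algebraMap_eq_zero p _).mpr (Ideal.mul_mem_right _ _ h3)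
  have haK : algebraMap A (AlgebraicClosure p.ResidueField) (2 * V.a₂) ≠ 0 := fun h =>
    ha ((algebraMap_eq_zero p _).mp h)
  obtain ⟨B, _, _, hB, q, hq, hqp, -, v, hvu, hv⟩ := exists_quad p (2 * V.a₂) (3 * V.a₄) 1
    (fun h => Ideal.IsPrime.ne_top ‹_› ((Ideal.eq_top_iff_one _).mpr h))
    (algebraMap A _ (2 * V.a₂)) (by rw [hK]; ring) (fun h => haK (by linear_combination h)) haK
  obtain ⟨w, hw⟩ := hvu
  let f := algebraMap A B
  let r : B := -(f V.a₄ * ((w⁻¹ : Bˣ) : B))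
  refine ⟨B, inferInstance, inferInstance, hB, q, hq, hqp, ⟨1, r, 0, 0⟩ * C₁.map f, ?_⟩
  rw [mul_smul, map_variableChange]
  change (_ • V.map f).a₁ = 0 ∧ (_ • V.map f).a₃ = 0 ∧ (_ • V.map f).a₄ = 0
  simp only [variableChange_a₁, variableChange_a₃, variableChange_a₄, map_a₁, map_a₂, map_a₃, map_a₄,
    show V.a₁ = 0 from hV1, show V.a₃ = 0 from hV3, map_zero, inv_one, Units.val_one, mul_zero, add_zero,
    one_pow, one_mul]
  refine ⟨trivial, trivial, ?_⟩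
  have h1 : v * ((w⁻¹ : Bˣ) : B) = 1 := by rw [← hw, Units.mul_inv]
  simp only [map_mul, map_ofNat] at hv
  simp only [r]
  linear_combination (f V.a₄ * ((w⁻¹ : Bˣ) : B) ^ 2) * hv -
    (f V.a₄ * (1 + v * ((w⁻¹ : Bˣ) : B)) - 2 * f V.a₂ * f V.a₄ * ((w⁻¹ : Bˣ) : B)) * h1

theorem same_three (p : Ideal A) [p.IsPrime] (W W' : WeierstrassCurve A) (h3 : (3 : A) ∈ p) (h1 : W.a₁ = 0)
    (h3a : W.a₃ = 0) (h4 : W.a₄ = 0) (h1' : W'.a₁ = 0) (h3a' : W'.a₃ = 0) (h4' : W'.a₄ = 0)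
    (ha : W'.a₂ = W.a₂) (hR : Rel W W') : LocIso p W W' := by
  have hc : W.c₄ = W.b₂ ^ 2 := by rw [c₄, b₄, h1, h3a, h4]; ring
  have hc' : W'.c₄ = W.c₄ := by simp only [c₄, b₂, b₄, h1, h3a, h4, h1', h3a', h4', ha]
  have hΔ : W'.Δ = W.Δ := (hR.2.1.pow 3).mul_left_cancel (by rw [hR.1, hc'])
  have hF : W.b₂ ^ 3 + 432 * (W.a₆ + W'.a₆) ∉ p := fun h => by
    have h' := sub_mem h (Ideal.mul_mem_right (W.a₆ + W'.a₆) _ (show (432 : A) ∈ p by
      rw [show (432 : A) = 144 * 3 by norm_num]; exact Ideal.mul_mem_left _ _ h3))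
    rw [add_sub_cancel_right] at h'
    exact Ideal.IsPrime.ne_top ‹_› (Ideal.eq_top_of_isUnit_mem _ (Ideal.IsPrime.mem_of_pow_mem ‹_› 3 h')
      ((isUnit_pow_iff two_ne_zero).mp (hc ▸ hR.2.1)))
  obtain ⟨B, _, _, hB, q, hq, hqp, hu⟩ := exists_isUnit p _ hF
  refine LocIso.step hB hqp (LocIso.of_eq q ?_)
  have hmul : (W.a₆ - W'.a₆) * (W.b₂ ^ 3 + 432 * (W.a₆ + W'.a₆)) = 0 := by
    rw [Δ, Δ, b₈, b₈, b₆, b₆, b₄, b₄, b₂, b₂, h1, h3a, h4, h1', h3a', h4', ha] at hΔ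
    rw [b₂, h1]
    linear_combination hΔ
  have h6 : algebraMap A B (W.a₆ - W'.a₆) = 0 :=
    hu.mul_left_eq_zero.mp (by rw [← map_mul, hmul, map_zero])
  rw [map_sub, sub_eq_zero] at h6
  ext <;> simp only [map_a₁, map_a₂, map_a₃, map_a₄, map_a₆, h1, h3a, h4, h1', h3a', h4', ha, h6]

theorem final_three (p : Ideal A) [p.IsPrime] (W W' : WeierstrassCurve A) (h3 : (3 : A) ∈ p) (h2 : IsUnit (2 : A))
    (h1 : W.a₁ = 0) (h3a : W.a₃ = 0) (h4 : W.a₄ = 0) (h1' : W'.a₁ = 0) (h3a' : W'.a₃ = 0) (h4' : W'.a₄ = 0)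
    (hR : Rel W W') : LocIso p W W' := by
  have hunit : ∀ U : WeierstrassCurve A, U.a₁ = 0 → U.a₃ = 0 → U.a₄ = 0 → IsUnit U.c₄ → IsUnit U.a₂ := by
    intro U g1 g3 g4 hU
    rw [c₄, b₂, b₄, g1, g3, g4, show ((0 : A) ^ 2 + 4 * U.a₂) ^ 2 - 24 * (2 * 0 + 0 * 0) = 16 * U.a₂ * U.a₂ by ring,
      IsUnit.mul_iff] at hU
    exact hU.2
  obtain ⟨e, he⟩ := hunit W h1 h3a h4 hR.2.1
  obtain ⟨e', he'⟩ := hunit W' h1' h3a' h4' hR.2.2.1
  let K := AlgebraicClosure p.ResidueField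
  have hne : ∀ z : Aˣ, algebraMap A K z ≠ 0 := fun z => (z.isUnit.map _).ne_zero
  obtain ⟨x, hx⟩ := IsAlgClosed.exists_pow_nat_eq (algebraMap A K (W.a₂ * W'.a₂)) Nat.zero_lt_two
  have hx0 : x ≠ 0 := fun h => by
    rw [h, zero_pow two_ne_zero, ← he, ← he', ← Units.val_mul] at hx
    exact hne _ hx.symm
  have h2K : (2 : K) ≠ 0 := by
    rw [← map_ofNat (algebraMap A K)]; exact (h2.map _).ne_zero
  obtain ⟨B, _, _, hB, q, hq, hqp, -, v, hvu, hv⟩ := exists_quad p 0 (-(W.a₂ * W'.a₂)) 1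
    (fun h => Ideal.IsPrime.ne_top ‹_› ((Ideal.eq_top_iff_one _).mpr h)) x
    (by rw [map_zero, map_neg, ← hx]; ring)
    (by rw [map_zero]; exact mul_ne_zero h2K hx0) hx0
  obtain ⟨w, hw⟩ := hvu
  let u : Bˣ := w * (Units.map (algebraMap A B).toMonoidHom e')⁻¹
  refine LocIso.step hB hqp (LocIso.of_change ⟨u, 0, 0, 0⟩ 1 ?_)
  rw [one_smul]
  refine same_three q _ _ (mem_map hqp 3 h3) ?_ ?_ ?_ ?_ ?_ ?_ ?_ ?_
  · simp only [variableChange_a₁, map_a₁, h1, map_zero, mul_zero, add_zero]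
  · simp only [variableChange_a₃, map_a₁, map_a₃, h1, h3a, map_zero, mul_zero, add_zero]
  · simp only [variableChange_a₄, map_a₁, map_a₂, map_a₃, map_a₄, h1, h3a, h4, map_zero]; ring
  · rw [map_a₁, h1', map_zero]
  · rw [map_a₃, h3a', map_zero]
  · rw [map_a₄, h4', map_zero]
  · simp only [variableChange_a₂, map_a₂, map_a₁, h1, map_zero, mul_zero, sub_zero, add_zero,
      zero_pow two_ne_zero]
    rw [map_zero, zero_mul, sub_zero, map_neg, map_mul, ← sub_eq_add_neg, sub_eq_zero] at hv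
    have hu : (u : B) * algebraMap A B W'.a₂ = v := by
      rw [← he', ← hw]
      change ((w * _ : Bˣ) : B) * ((Units.map (algebraMap A B).toMonoidHom e' : Bˣ) : B) = _
      rw [← Units.val_mul, inv_mul_cancel_right]
    have hval : algebraMap A B W.a₂ = algebraMap A B W'.a₂ * (u : B) ^ 2 := by
      refine (e'.isUnit.map (algebraMap A B)).mul_left_cancel ?_
      rw [he']
      linear_combination -hv - ((u : B) * algebraMap A B W'.a₂ + v) * hu
    rw [hval, mul_comm, mul_assoc, ← mul_pow, Units.mul_inv, one_pow, mul_one]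
  · have h := (hR.map (algebraMap A B)).change ⟨u, 0, 0, 0⟩ 1
    rw [one_smul] at h
    exact h

theorem loc_three (p : Ideal A) [p.IsPrime] (W W' : WeierstrassCurve A) (h3 : (3 : A) ∈ p) (h2 : IsUnit (2 : A))
    (hR : Rel W W') : LocIso p W W' := by
  obtain ⟨B, _, _, hB, q, hq, hqp, C, h1, h3a, h4⟩ := norm_three p W h3 h2 hR.2.1
  refine LocIso.step hB hqp (LocIso.of_change C 1 ?_)
  rw [one_smul]
  have h3q : (3 : B) ∈ q := mem_map hqp 3 h3
  have h2B : IsUnit (2 : B) := by have := h2.map (algebraMap A B); rwa [map_ofNat] at this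
  obtain ⟨B', _, _, hB', q', hq', hqp', C', h1', h3a', h4'⟩ :=
    norm_three q (W'.map (algebraMap A B)) h3q h2B (hR.map _).2.2.1
  refine LocIso.step hB' hqp' (LocIso.of_change 1 C' ?_)
  rw [one_smul]
  refine final_three q' _ _ (mem_map hqp' 3 h3q) (by have := h2B.map (algebraMap B B'); rwa [map_ofNat] at this)
    (by rw [map_a₁, h1, map_zero]) (by rw [map_a₃, h3a, map_zero]) (by rw [map_a₄, h4, map_zero]) h1' h3a' h4' ?_
  have h := (((hR.map (algebraMap A B)).change C 1).map (algebraMap B B')).change 1 C'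
  rw [one_smul, one_smul] at h
  exact h

theorem norm_six (W : WeierstrassCurve A) (h2 : IsUnit (2 : A)) (h3 : IsUnit (3 : A)) :
    ∃ C : VariableChange A, (C • W).a₁ = 0 ∧ (C • W).a₂ = 0 ∧ (C • W).a₃ = 0 := by
  obtain ⟨C₁, hV1, hV3⟩ := norm_odd W h2
  obtain ⟨h, hh⟩ := h3
  have hi : (3 : A) * ((h⁻¹ : Aˣ) : A) = 1 := by rw [← hh, Units.mul_inv]
  refine ⟨⟨1, -(C₁ • W).a₂ * ((h⁻¹ : Aˣ) : A), 0, 0⟩ * C₁, ?_⟩
  rw [mul_smul]
  simp only [variableChange_a₁ (C₁ • W), variableChange_a₂ (C₁ • W), variableChange_a₃ (C₁ • W), hV1, hV3,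
    inv_one, Units.val_one, one_pow, one_mul, mul_zero, add_zero]
  refine ⟨trivial, ?_, trivial⟩
  linear_combination -(C₁ • W).a₂ * hi

theorem final_six (p : Ideal A) [p.IsPrime] (W W' : WeierstrassCurve A) (h2 : IsUnit (2 : A)) (h3 : IsUnit (3 : A))
    (h1 : W.a₁ = 0) (ha : W.a₂ = 0) (h3a : W.a₃ = 0) (h1' : W'.a₁ = 0) (ha' : W'.a₂ = 0) (h3a' : W'.a₃ = 0)
    (hR : Rel W W') : LocIso p W W' := by
  have hc4 : ∀ U : WeierstrassCurve A, U.a₁ = 0 → U.a₂ = 0 → U.a₃ = 0 → U.c₄ = -48 * U.a₄ := fun U g1 g2 g3 => by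
    rw [c₄, b₂, b₄, g1, g2, g3]; ring
  have hc6 : ∀ U : WeierstrassCurve A, U.a₁ = 0 → U.a₂ = 0 → U.a₃ = 0 → U.c₆ = -864 * U.a₆ := fun U g1 g2 g3 => by
    rw [c₆, b₂, b₄, b₆, g1, g2, g3]; ring
  have hΔ : ∀ U : WeierstrassCurve A, U.a₁ = 0 → U.a₂ = 0 → U.a₃ = 0 →
      U.Δ = -16 * (4 * U.a₄ ^ 3 + 27 * U.a₆ ^ 2) := fun U g1 g2 g3 => by
    rw [Δ, b₈, b₆, b₄, b₂, g1, g2, g3]; ring
  obtain ⟨hj, k4, k4', k6, k6'⟩ := hR
  rw [hc4 W h1 ha h3a, hc4 W' h1' ha' h3a', hΔ W h1 ha h3a, hΔ W' h1' ha' h3a'] at hj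
  rw [hc4 W h1 ha h3a, IsUnit.mul_iff] at k4
  rw [hc4 W' h1' ha' h3a', IsUnit.mul_iff] at k4'
  rw [hc6 W h1 ha h3a, IsUnit.mul_iff] at k6
  rw [hc6 W' h1' ha' h3a', IsUnit.mul_iff] at k6'
  have hN : IsUnit ((2 : A) ^ 16 * 3 ^ 6) := (h2.pow _).mul (h3.pow _)
  have hrel : W.a₄ ^ 3 * W'.a₆ ^ 2 = W'.a₄ ^ 3 * W.a₆ ^ 2 :=
    hN.mul_left_cancel (by linear_combination hj)
  let K := AlgebraicClosure p.ResidueField
  obtain ⟨x, hx⟩ := IsAlgClosed.exists_pow_nat_eq (algebraMap A K (W.a₆ * W'.a₄ * (W'.a₆ * W.a₄))) Nat.zero_lt_two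
  have hx0 : x ≠ 0 := fun h => by
    rw [h, zero_pow two_ne_zero] at hx
    exact (((k6.2.mul k4'.2).mul (k6'.2.mul k4.2)).map (algebraMap A K)).ne_zero hx.symm
  have h2K : (2 : K) ≠ 0 := by
    rw [← map_ofNat (algebraMap A K)]; exact (h2.map _).ne_zero
  obtain ⟨B, _, _, hB, q, hq, hqp, -, v, hvu, hv⟩ := exists_quad p 0 (-(W.a₆ * W'.a₄ * (W'.a₆ * W.a₄))) 1
    (fun h => Ideal.IsPrime.ne_top ‹_› ((Ideal.eq_top_iff_one _).mpr h)) x
    (by rw [map_zero, map_neg, ← hx]; ring)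
    (by rw [map_zero]; exact mul_ne_zero h2K hx0) hx0
  obtain ⟨w, hw⟩ := hvu
  obtain ⟨D, hD⟩ := (k6'.2.mul k4.2).map (algebraMap A B)
  let u : Bˣ := w * D⁻¹
  let f := algebraMap A B
  rw [map_zero, zero_mul, sub_zero, map_neg, map_mul, ← sub_eq_add_neg, sub_eq_zero] at hv
  simp only [map_mul] at hv hD
  have hu : (u : B) * (f W'.a₆ * f W.a₄) = v := by
    rw [← hD, ← hw, ← Units.val_mul, inv_mul_cancel_right]
  have hu2 : (u : B) ^ 2 * (f W'.a₆ * f W.a₄) = f W.a₆ * f W'.a₄ := by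
    refine D.isUnit.mul_left_cancel ?_
    rw [hD]
    linear_combination hv + ((u : B) * (f W'.a₆ * f W.a₄) + v) * hu
  have hrel' : f W.a₄ ^ 3 * f W'.a₆ ^ 2 = f W'.a₄ ^ 3 * f W.a₆ ^ 2 := by
    rw [← map_pow, ← map_pow, ← map_pow, ← map_pow, ← map_mul, hrel, map_mul]
  have h4u : f W.a₄ = (u : B) ^ 4 * f W'.a₄ := by
    refine (D.isUnit.pow 2).mul_left_cancel ?_
    rw [hD]
    linear_combination hrel' - f W'.a₄ * ((u : B) ^ 2 * (f W'.a₆ * f W.a₄) + f W.a₆ * f W'.a₄) * hu2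
  have h6u : f W.a₆ = (u : B) ^ 6 * f W'.a₆ := by
    refine (D.isUnit.pow 3).mul_left_cancel ?_
    rw [hD]
    linear_combination (f W.a₆ * f W'.a₆) * hrel' - f W'.a₆ * (((u : B) ^ 2 * (f W'.a₆ * f W.a₄)) ^ 2 +
      (u : B) ^ 2 * (f W'.a₆ * f W.a₄) * (f W.a₆ * f W'.a₄) + (f W.a₆ * f W'.a₄) ^ 2) * hu2
  refine LocIso.step hB hqp (LocIso.of_change ⟨u, 0, 0, 0⟩ 1 (LocIso.of_eq q ?_))
  rw [one_smul]
  ext
  · simp only [variableChange_a₁, map_a₁, h1, h1', map_zero, mul_zero, add_zero]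
  · simp only [variableChange_a₂, map_a₁, map_a₂, h1, ha, ha', map_zero]; ring
  · simp only [variableChange_a₃, map_a₁, map_a₃, h1, h3a, h3a', map_zero, mul_zero, add_zero]
  · simp only [variableChange_a₄, map_a₁, map_a₂, map_a₃, map_a₄, h1, ha, h3a, map_zero]
    change ((u⁻¹ : Bˣ) : B) ^ 4 * _ = f W'.a₄
    linear_combination ((u⁻¹ : Bˣ) : B) ^ 4 * h4u +
      f W'.a₄ * ((((u⁻¹ : Bˣ) : B) * u) ^ 3 + (((u⁻¹ : Bˣ) : B) * u) ^ 2 + ((u⁻¹ : Bˣ) : B) * u + 1) * u.inv_mul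
  · simp only [variableChange_a₆, map_a₁, map_a₂, map_a₃, map_a₄, map_a₆, h1, ha, h3a, map_zero]
    change ((u⁻¹ : Bˣ) : B) ^ 6 * _ = f W'.a₆
    linear_combination ((u⁻¹ : Bˣ) : B) ^ 6 * h6u +
      f W'.a₆ * ((((u⁻¹ : Bˣ) : B) * u) ^ 5 + (((u⁻¹ : Bˣ) : B) * u) ^ 4 + (((u⁻¹ : Bˣ) : B) * u) ^ 3 +
        (((u⁻¹ : Bˣ) : B) * u) ^ 2 + ((u⁻¹ : Bˣ) : B) * u + 1) * u.inv_mul

theorem locIso (p : Ideal A) [p.IsPrime] (W W' : WeierstrassCurve A) (hR : Rel W W') : LocIso p W W' := by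
  by_cases h2 : (2 : A) ∈ p
  · exact loc_two p W W' h2 hR
  obtain ⟨B, _, _, hB, q, hq, hqp, h2B⟩ := exists_isUnit p _ h2
  rw [map_ofNat] at h2B
  refine LocIso.step hB hqp ?_
  by_cases h3 : (3 : B) ∈ q
  · exact loc_three q _ _ h3 h2B (hR.map _)
  obtain ⟨B', _, _, hB', q', hq', hqp', h3B⟩ := exists_isUnit q _ h3
  rw [map_ofNat] at h3B
  have h2B' : IsUnit (2 : B') := by have := h2B.map (algebraMap B B'); rwa [map_ofNat] at this
  refine LocIso.step hB' hqp' ?_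
  obtain ⟨C, c1, c2, c3⟩ := norm_six ((W.map (algebraMap A B)).map (algebraMap B B')) h2B' h3B
  obtain ⟨C', c1', c2', c3'⟩ := norm_six ((W'.map (algebraMap A B)).map (algebraMap B B')) h2B' h3B
  exact LocIso.of_change C C' (final_six q' _ _ h2B' h3B c1 c2 c3 c1' c2' c3'
    (((hR.map _).map _).change C C'))

end Groth.Agent.WeierLocIso
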